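import Cfsg.Agent.CLAS.D4.Def

/-!
# Block A, I: monomial `2 × 2` matrices, blocks and lifts
-/

set_option autoImplicit false

namespace CL.D4.A

open Matrix

variable {k : Type*} [Field k]

/-- monomial `2 × 2` matrices -/
@[ext] structure Dm (k : Type*) [Field k] where
  p : kˣ
  q : kˣ
  e : Bool

namespace Dm

instance : Mul (Dm k) :=
  ⟨fun a b => ⟨a.p * (bif a.e then b.q else b.p), a.q * (bif a.e then b.p else b.q), xor a.e b.e⟩⟩
instance : One (Dm k) := ⟨⟨1, 1, false⟩⟩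
instance : Inv (Dm k) := ⟨fun a => ⟨(bif a.e then a.q else a.p)⁻¹, (bif a.e then a.p else a.q)⁻¹, a.e⟩⟩
instance : Neg (Dm k) := ⟨fun a => ⟨-a.p, -a.q, a.e⟩⟩

theorem mul_def (a b : Dm k) : a * b =
    ⟨a.p * (bif a.e then b.q else b.p), a.q * (bif a.e then b.p else b.q), xor a.e b.e⟩ := rfl
theorem one_def : (1 : Dm k) = ⟨1, 1, false⟩ := rfl
theorem inv_def (a : Dm k) :
    a⁻¹ = ⟨(bif a.e then a.q else a.p)⁻¹, (bif a.e then a.p else a.q)⁻¹, a.e⟩ := rfl
theorem neg_def (a : Dm k) : -a = ⟨-a.p, -a.q, a.e⟩ := rfl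

instance : Group (Dm k) := Group.ofLeftAxioms
  (by rintro ⟨p, q, _ | _⟩ ⟨p', q', _ | _⟩ ⟨p'', q'', _ | _⟩ <;> simp [mul_def, mul_assoc])
  (by rintro ⟨p, q, e⟩; simp [mul_def, one_def])
  (by rintro ⟨p, q, _ | _⟩ <;> simp [mul_def, one_def, inv_def])

instance : HasDistribNeg (Dm k) where
  neg_neg := by rintro ⟨p, q, e⟩; simp [neg_def]
  neg_mul := by rintro ⟨p, q, e⟩ b; simp [neg_def, mul_def]
  mul_neg := by rintro ⟨p, q, _ | _⟩ b <;> simp [neg_def, mul_def]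

end Dm

/-- scalars -/
def sc : kˣ →* Dm k := MonoidHom.mk' (fun c => ⟨c, c, false⟩) fun _ _ => rfl

/-- the diagonal elements of determinant one -/
def dg : kˣ →* Dm k := MonoidHom.mk' (fun c => ⟨c, c⁻¹, false⟩) fun _ _ => by simp [Dm.mul_def, mul_comm]

def ww (k : Type*) [Field k] : Dm k := ⟨1, -1, true⟩

def dt : Dm k →* kˣ := MonoidHom.mk' (fun a => bif a.e then -(a.p * a.q) else a.p * a.q) (by
  rintro ⟨p, q, _ | _⟩ ⟨p', q', _ | _⟩ <;> simp [Dm.mul_def, mul_comm, mul_left_comm])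

theorem sc_def (c : kˣ) : sc c = ⟨c, c, false⟩ := rfl
theorem dg_def (c : kˣ) : dg c = ⟨c, c⁻¹, false⟩ := rfl
theorem dt_def (a : Dm k) : dt a = bif a.e then -(a.p * a.q) else a.p * a.q := rfl

/-- unfold the monomial calculus -/
macro "dsimpm" loc:(Lean.Parser.Tactic.location)? : tactic => `(tactic| simp only [Dm.mul_def, Dm.one_def,
  Dm.inv_def, Dm.neg_def, sc_def, dg_def, dt_def, ww, cond_true, cond_false, Bool.xor_false, Bool.xor_true,
  Bool.not_true, Bool.not_false, Bool.false_eq_true, Bool.true_eq_false, Dm.mk.injEq, and_true, and_false,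
  true_and, Units.ext_iff, Units.val_mul, Units.val_inv_eq_inv_val, Units.val_neg, Units.val_one,
  Units.val_pow_eq_pow_val, not_false_eq_true, ne_eq] $[$loc]?)

theorem sc_comm (c : kˣ) (x : Dm k) : sc c * x = x * sc c := by
  rcases x with ⟨p, q, _ | _⟩ <;> simp [Dm.mul_def, sc_def, mul_comm]

theorem sc_neg (c : kˣ) : sc (-c) = -sc c := rfl
theorem dg_neg (c : kˣ) : dg (-c) = -dg c := by simp [dg_def, Dm.neg_def]
theorem dt_neg (x : Dm k) : dt (-x) = dt x := by rcases x with ⟨p, q, _ | _⟩ <;> simp [dt_def, Dm.neg_def]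
theorem dt_sc (c : kˣ) : dt (sc c) = c * c := rfl
theorem dt_dg (c : kˣ) : dt (dg c) = 1 := by simp [dt_def, dg_def]
theorem dt_ww : dt (ww k) = 1 := by simp [dt_def, ww]
theorem ww_sq : ww k * ww k = -1 := by simp [Dm.mul_def, ww, Dm.neg_def, Dm.one_def]
theorem ww_dg (c : kˣ) : ww k * dg c = dg c⁻¹ * ww k := by simp [Dm.mul_def, ww, dg_def]

abbrev G2 (k : Type*) [Field k] := GL (Fin 2) k

section Sc

variable {n : Type*} [Fintype n] [DecidableEq n]

/-- scalar matrices -/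
def ss : kˣ →* GL n k := Units.map (algebraMap k (Matrix n n k)).toMonoidHom

theorem ss_val (c : kˣ) : (ss c : GL n k).1 = (c : k) • 1 := Algebra.algebraMap_eq_smul_one (c : k)

theorem ss_comm (c : kˣ) (A : GL n k) : ss c * A = A * ss c := Units.ext (by simp [ss_val])

theorem ss_left (c : kˣ) (A B : GL n k) : A * (ss c * B) = ss c * (A * B) := by
  rw [← mul_assoc, ← ss_comm, mul_assoc]

theorem ss_neg_one : (ss (-1 : kˣ) : GL n k) = -1 := Units.ext (by simp [ss_val])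

theorem ss_inj [Nonempty n] : Function.Injective (ss : kˣ →* GL n k) := fun a b h => Units.ext (by
  simpa [ss_val] using congrArg (fun A : GL n k => A.1 (Classical.arbitrary n) (Classical.arbitrary n)) h)

theorem neg_one_ne (h2 : (2 : k) ≠ 0) : (-1 : kˣ) ≠ 1 := fun h =>
  h2 (by have := congrArg Units.val h; simp only [Units.val_neg, Units.val_one] at this; linear_combination -this)

theorem ne_neg [Nonempty n] (h2 : (2 : k) ≠ 0) (A : GL n k) : A ≠ -A := fun h =>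
  neg_one_ne h2 (ss_inj (n := n) (mul_left_cancel (a := A) (by rw [ss_neg_one, map_one, mul_neg, mul_one, ← h])))

end Sc

/-- the matrix of a monomial element -/
def mm : Dm k →* Matrix (Fin 2) (Fin 2) k where
  toFun a := bif a.e then !![0, a.p; a.q, 0] else !![a.p, 0; 0, a.q]
  map_one' := by simp [Dm.one_def, one_fin_two]
  map_mul' := by rintro ⟨p, q, _ | _⟩ ⟨p', q', _ | _⟩ <;> simp [Dm.mul_def]

def mu : Dm k →* G2 k := mm.toHomUnits

theorem mu_val (a : Dm k) :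
    (mu a).1 = bif a.e then !![0, (a.p : k); (a.q : k), 0] else !![(a.p : k), 0; 0, (a.q : k)] := rfl

theorem mu_inj : Function.Injective (mu (k := k)) := (injective_iff_map_eq_one _).2 (by
  rintro ⟨p, q, _ | _⟩ h
  · have h1 := congrArg (fun A : G2 k => A.1 0 0) h
    have h2 := congrArg (fun A : G2 k => A.1 1 1) h
    simp [mu_val] at h1 h2
    simp [h1, h2, Dm.one_def]
  · simpa [mu_val] using congrArg (fun A : G2 k => A.1 0 0) h)

theorem mu_sc (c : kˣ) : mu (sc c) = ss c := by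
  ext i j; fin_cases i <;> fin_cases j <;> simp [mu_val, sc_def, ss_val]

theorem mu_neg (a : Dm k) : mu (-a) = -mu a := by
  rcases a with ⟨p, q, _ | _⟩ <;> ext i j <;> fin_cases i <;> fin_cases j <;> simp [mu_val, Dm.neg_def]

theorem det_mu (a : Dm k) : (mu a).1.det = dt a := by
  rcases a with ⟨p, q, _ | _⟩ <;> simp [mu_val, dt_def]

/-- block diagonal matrices -/
def bm : G2 k × G2 k →* M4 k where
  toFun g := !![g.1.1 0 0, g.1.1 0 1, 0, 0; g.1.1 1 0, g.1.1 1 1, 0, 0; 0, 0, g.2.1 0 0, g.2.1 0 1;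
    0, 0, g.2.1 1 0, g.2.1 1 1]
  map_one' := by ext i j; fin_cases i <;> fin_cases j <;> simp
  map_mul' g h := by
    ext i j; fin_cases i <;> fin_cases j <;> simp [Matrix.mul_apply, Fin.sum_univ_four, Fin.sum_univ_two]

def bl : G2 k × G2 k →* G4 k := bm.toHomUnits

theorem bl_val (x y : G2 k) : (bl (x, y)).1 = !![x.1 0 0, x.1 0 1, 0, 0; x.1 1 0, x.1 1 1, 0, 0;
    0, 0, y.1 0 0, y.1 0 1; 0, 0, y.1 1 0, y.1 1 1] := rfl

theorem bl_mul (x y x' y' : G2 k) : bl (x, y) * bl (x', y') = bl (x * x', y * y') := (map_mul bl _ _).symm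

theorem bl_inv (x y : G2 k) : (bl (x, y))⁻¹ = bl (x⁻¹, y⁻¹) := (map_inv bl _).symm

theorem bl_one : bl ((1 : G2 k), (1 : G2 k)) = 1 := map_one bl

theorem bl_ss (c : kˣ) : bl ((ss c : G2 k), (ss c : G2 k)) = ss c := by
  ext i j; fin_cases i <;> fin_cases j <;> simp [bl_val, ss_val]

theorem bl_neg (x y : G2 k) : bl (-x, -y) = -bl (x, y) := by
  ext i j; fin_cases i <;> fin_cases j <;> simp [bl_val]

theorem bl_inj {x y x' y' : G2 k} (h : bl (x, y) = bl (x', y')) : x = x' ∧ y = y' := by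
  have e := fun i j => congrArg (fun A : G4 k => A.1 i j) h
  constructor <;> ext i j <;> fin_cases i <;> fin_cases j
  exacts [e 0 0, e 0 1, e 1 0, e 1 1, e 2 2, e 2 3, e 3 2, e 3 3]

theorem det_bl (x y : G2 k) : (bl (x, y)).1.det = x.1.det * y.1.det := by
  simp [bl_val, det_succ_row_zero, Fin.sum_univ_succ, Fin.succAbove]; ring

theorem tr_bl (x y : G2 k) : tr (bl (x, y)) = x.1.trace + y.1.trace := by
  simp [tr, bl_val, trace, Fin.sum_univ_four]; ring

/-- the swap of the two planes -/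
def om (k : Type*) [Field k] : G4 k :=
  ⟨!![0, 0, 1, 0; 0, 0, 0, 1; 1, 0, 0, 0; 0, 1, 0, 0], !![0, 0, 1, 0; 0, 0, 0, 1; 1, 0, 0, 0; 0, 1, 0, 0],
    by ext i j; fin_cases i <;> fin_cases j <;> simp, by ext i j; fin_cases i <;> fin_cases j <;> simp⟩

theorem om_sq : om k * om k = 1 := Units.ext (om k).val_inv

theorem om_inv : (om k)⁻¹ = om k := inv_eq_of_mul_eq_one_right om_sq

theorem om_bl (x y : G2 k) : om k * bl (x, y) = bl (y, x) * om k := by
  ext i j; fin_cases i <;> fin_cases j <;> simp [bl_val, om, Matrix.mul_apply, Fin.sum_univ_four]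

/-- the standard involution -/
abbrev ZZ (k : Type*) [Field k] : G4 k := bl (1, -1)

theorem exists_bl (h2 : (2 : k) ≠ 0) {A : G4 k} (h : A * ZZ k = ZZ k * A) : ∃ x y, A = bl (x, y) := by
  have e : ∀ i j, (A.1 * (ZZ k).1) i j = ((ZZ k).1 * A.1) i j := fun i j => congrArg (fun A : G4 k => A.1 i j) h
  have z : ∀ {a : k}, -a = a ∨ a = -a → a = 0 := fun h => (mul_eq_zero.1 (by
    rcases h with h | h <;> [linear_combination -h; linear_combination h])).resolve_left h2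
  have e1 : A.1 = !![A.1 0 0, A.1 0 1, 0, 0; A.1 1 0, A.1 1 1, 0, 0; 0, 0, A.1 2 2, A.1 2 3;
      0, 0, A.1 3 2, A.1 3 3] := by
    ext i j
    have := e i j
    fin_cases i <;> fin_cases j <;> simp [bl_val, Matrix.mul_apply, Fin.sum_univ_four] at this ⊢ <;>
      first | exact z (.inl this) | exact z (.inr this)
  have e2 : A.1.det = (!![A.1 0 0, A.1 0 1; A.1 1 0, A.1 1 1]).det * (!![A.1 2 2, A.1 2 3; A.1 3 2, A.1 3 3]).det := by
    rw [e1]; simp [det_succ_row_zero, Fin.sum_univ_succ, Fin.succAbove]; ring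
  have e3 := A.det_ne_zero
  rw [e2] at e3
  exact ⟨.mkOfDetNeZero _ (left_ne_zero_of_mul e3), .mkOfDetNeZero _ (right_ne_zero_of_mul e3), Units.ext e1⟩

theorem om_ZZ : om k * ZZ k = -(ZZ k * om k) := by
  rw [om_bl, ← neg_mul, ← bl_neg, neg_neg]

variable {G : Type*} [Group G]

/-- `L A g`: the matrix `A` is a lift of `g`; no lift is a reflection -/
structure Lf (L : G4 k → G → Prop) : Prop where
  two : (2 : k) ≠ 0
  ex : ∀ g, ∃ A, L A g
  mul : ∀ {A B g h}, L A g → L B h → L (A * B) (g * h)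
  one : ∀ {A}, L A 1 ↔ ∃ c : kˣ, A = ss c
  fn : ∀ {A g h}, L A g → L A h → g = h
  noJ : ∀ {A g}, L A g → A * A = 1 → A = 1 ∨ A = -1 ∨ tr A = 0

variable {L : G4 k → G → Prop} {A B : G4 k} {g h a b : G}

/-- lifts commute up to the scalar `ε` -/
def Cs (L : G4 k → G → Prop) (ε : kˣ) (a b : G) : Prop := ∃ A B, L A a ∧ L B b ∧ A * B = ss ε * (B * A)

/-- the fourth power of a lift of determinant one -/
def Ep (L : G4 k → G → Prop) (ε : kˣ) (g : G) : Prop := ∃ A, L A g ∧ A.1.det = 1 ∧ A ^ 4 = ss ε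

def Tr (L : G4 k → G → Prop) (g : G) : Prop := ∃ A, L A g ∧ tr A ≠ 0

namespace Lf

variable (H : Lf L)
include H

theorem smul (h : L A g) (c : kˣ) : L (ss c * A) g := by
  simpa using H.mul (H.one.2 ⟨c, rfl⟩) h

theorem neg (h : L A g) : L (-A) g := by
  simpa [ss_neg_one] using H.smul h (-1)

theorem inv (h : L A g) : L A⁻¹ g⁻¹ := by
  obtain ⟨B, hB⟩ := H.ex g⁻¹
  obtain ⟨c, e⟩ := H.one.1 (mul_inv_cancel g ▸ H.mul h hB)
  have := H.smul hB c⁻¹
  rwa [← inv_eq_of_mul_eq_one_right (show A * (ss c⁻¹ * B) = 1 by rw [ss_left, e, ← map_mul]; simp)] at this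

theorem uniq (h : L A g) (h' : L B g) : ∃ c : kˣ, B = ss c * A := by
  obtain ⟨c, e⟩ := H.one.1 (mul_inv_cancel g ▸ H.mul h' (H.inv h))
  exact ⟨c, mul_inv_eq_iff_eq_mul.1 e⟩

theorem pow (h : L A g) (n : ℕ) : L (A ^ n) (g ^ n) := by
  induction n with
  | zero => simpa using H.one.2 ⟨1, (map_one _).symm⟩
  | succ n ih => rw [pow_succ, pow_succ]; exact H.mul ih h

theorem conj (h1 : L A g) (h2 : L B h) : L (B * A * B⁻¹) (h * g * h⁻¹) := H.mul (H.mul h2 h1) (H.inv h2)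

theorem cs_iff {ε : kˣ} (hA : L A a) (hB : L B b) : Cs L ε a b ↔ A * B = ss ε * (B * A) := by
  refine ⟨fun ⟨A', B', h1, h2, e⟩ => ?_, fun e => ⟨A, B, hA, hB, e⟩⟩
  obtain ⟨c, rfl⟩ := H.uniq h1 hA
  obtain ⟨d, rfl⟩ := H.uniq h2 hB
  simp only [mul_assoc, ss_left _ A', ss_left _ B', e]
  rw [ss_left ε (ss d), ss_left ε (ss c), ss_left c (ss d)]

theorem cs_conj {ε : kˣ} (h : Cs L ε a b) (g : G) : Cs L ε (g * a * g⁻¹) (g * b * g⁻¹) := by
  obtain ⟨A, B, h1, h2, e⟩ := h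
  obtain ⟨C, hC⟩ := H.ex g
  exact ⟨_, _, H.conj h1 hC, H.conj h2 hC, by rw [conj_mul, conj_mul, e, ss_left, mul_assoc]⟩

theorem ep_conj {ε : kˣ} (h : Ep L ε a) (g : G) : Ep L ε (g * a * g⁻¹) := by
  obtain ⟨A, h1, h2, e⟩ := h
  obtain ⟨C, hC⟩ := H.ex g
  exact ⟨_, H.conj h1 hC, by rw [Units.val_mul, Units.val_mul, det_units_conj, h2],
    by rw [conj_pow, e, ← ss_comm, mul_inv_cancel_right]⟩

theorem tr_conj (h : Tr L a) (g : G) : Tr L (g * a * g⁻¹) := by
  obtain ⟨A, h1, h2⟩ := h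
  obtain ⟨C, hC⟩ := H.ex g
  exact ⟨_, H.conj h1 hC, by rwa [← D4.tr_conj (isConj_iff.2 ⟨C, rfl⟩)]⟩

theorem cs_comm {ε : kˣ} (h : Cs L ε a b) : a * b = b * a := by
  obtain ⟨A, B, h1, h2, e⟩ := h
  exact H.fn (H.mul h1 h2) (e ▸ H.smul (H.mul h2 h1) ε)

theorem cs_not (h : Cs L 1 a b) : ¬ Cs L (-1) a b := fun h' => by
  obtain ⟨A, B, h1, h2, e⟩ := h
  have := (H.cs_iff h1 h2).1 h'
  rw [e, map_one, one_mul, ss_neg_one, neg_one_mul] at this
  exact ne_neg H.two _ this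

theorem cs_or (h : a * b = b * a) (hb : b * b = 1) : Cs L 1 a b ∨ Cs L (-1) a b := by
  obtain ⟨A, hA⟩ := H.ex a
  obtain ⟨B, hB⟩ := H.ex b
  obtain ⟨c, e⟩ := H.uniq (H.mul hB hA) (h ▸ H.mul hA hB)
  obtain ⟨d, e'⟩ := H.one.1 (hb ▸ H.mul hB hB)
  have h1 : ss (c * c) * (B * B * A) = ss 1 * (B * B * A) := by
    calc _ = ss c * (B * (A * B)) := by rw [e, ss_left c B, map_mul, mul_assoc, mul_assoc]
      _ = A * (B * B) := by rw [← mul_assoc B, ← mul_assoc, ← e, mul_assoc]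
      _ = _ := by rw [e', map_one, one_mul, ss_comm]
  have h2 : (c : k) * c = 1 := congrArg Units.val (ss_inj (mul_right_cancel h1))
  exact (mul_self_eq_one_iff.1 h2).imp (fun h3 => ⟨A, B, hA, hB, (show c = 1 from Units.ext h3) ▸ e⟩)
    fun h3 => ⟨A, B, hA, hB, (show c = -1 from Units.ext h3) ▸ e⟩

omit H [Group G] in
theorem cs_symm (h : Cs L (-1) a b) : Cs L (-1) b a := by
  obtain ⟨A, B, h1, h2, e⟩ := h
  exact ⟨B, A, h2, h1, by rw [e, ss_neg_one]; simp⟩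

/-- change of basis -/
theorem cb (X : G4 k) : Lf fun A g => L (X * A * X⁻¹) g where
  two := H.two
  ex g := (H.ex g).imp' (fun A => X⁻¹ * A * X) fun A h => by simpa [mul_assoc] using h
  mul h h' := by simpa only [conj_mul] using H.mul h h'
  one := H.one.trans (exists_congr fun c => by
    rw [mul_inv_eq_iff_eq_mul, ss_comm, mul_right_inj])
  fn := H.fn
  noJ h e := (H.noJ h (by rw [conj_mul, e, mul_one, mul_inv_cancel])).imp (fun a => by simpa using a)
    (Or.imp (fun a => by rwa [mul_inv_eq_iff_eq_mul, ← eq_inv_mul_iff_mul_eq, neg_mul, one_mul, mul_neg,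
      inv_mul_cancel] at a) fun a => by rwa [← D4.tr_conj (isConj_iff.2 ⟨X, rfl⟩)] at a)

variable {z : G} (hz : L (ZZ k) z)
include hz

theorem bk (h : Cs L 1 g z) : ∃ x y, L (bl (x, y)) g := by
  obtain ⟨A, hA⟩ := H.ex g
  obtain ⟨x, y, rfl⟩ := exists_bl H.two (by simpa using (H.cs_iff hA hz).1 h)
  exact ⟨x, y, hA⟩

theorem sw (h : Cs L (-1) g z) : ∃ x y, L (bl (x, y) * om k) g := by
  obtain ⟨A, hA⟩ := H.ex g
  have e := (H.cs_iff hA hz).1 h
  rw [ss_neg_one, neg_one_mul] at e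
  obtain ⟨x, y, e'⟩ := exists_bl H.two (A := A * om k) (by
    rw [mul_assoc, om_ZZ, mul_neg, ← mul_assoc, e, neg_mul, neg_neg, mul_assoc])
  exact ⟨x, y, by rwa [← e', mul_assoc, om_sq, mul_one]⟩

omit H [Group G] in
theorem cs_bk {x y : G2 k} (h : L (bl (x, y)) g) : Cs L 1 g z :=
  ⟨_, _, h, hz, by simp [bl_mul]⟩

omit H [Group G] in
theorem cs_sw {x y : G2 k} (h : L (bl (x, y) * om k) g) : Cs L (-1) g z :=
  ⟨_, _, h, hz, by rw [mul_assoc, om_ZZ, mul_neg, ss_neg_one, neg_one_mul, ← mul_assoc, ← mul_assoc]; simp [bl_mul]⟩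

theorem zz : z * z = 1 := H.fn (H.mul hz hz) (H.one.2 ⟨1, by simp [bl_mul, bl_one]⟩)

theorem z1 : z ≠ 1 := by
  rintro rfl
  obtain ⟨c, e⟩ := H.one.1 hz
  rw [← bl_ss] at e
  exact ne_neg H.two _ ((bl_inj e).1.trans (bl_inj e).2.symm)

end Lf

end CL.D4.A
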